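/-
Checks of the relators at a range of points.
-/
import Cfsg.Agent.Lib.Spor.J3.ActJ.Data
import Cfsg.Agent.Lib.Spor.J3.Rels

namespace CfsgLib.Spor.J3.ActJ

open CfsgLib.Spor.TC

set_option maxRecDepth 100000 in
theorem range0 : act.RangeOK relsJ 0 384 :=
  Act.RangeOK.of_check _ (by decide +kernel)

set_option maxRecDepth 100000 in
theorem range384 : act.RangeOK relsJ 384 768 :=
  Act.RangeOK.of_check _ (by decide +kernel)

set_option maxRecDepth 100000 in
theorem range768 : act.RangeOK relsJ 768 1152 :=
  Act.RangeOK.of_check _ (by decide +kernel)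

end CfsgLib.Spor.J3.ActJ
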