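/-
The action with its checks.
-/
import Cfsg.Agent.Lib.Spor.J3.ActJ.Orbits
import Cfsg.Agent.Lib.Spor.J3.CJ.All
import Cfsg.Agent.Lib.Spor.J3.ActJ.Range0
import Cfsg.Agent.Lib.Spor.J3.ActJ.Range1
import Cfsg.Agent.Lib.Spor.J3.ActJ.Range2
import Cfsg.Agent.Lib.Spor.J3.ActJ.Range3
import Cfsg.Agent.Lib.Spor.J3.ActJ.Range4
import Cfsg.Agent.Lib.Spor.J3.ActJ.Range5

namespace CfsgLib.Spor.J3.ActJ

open CfsgLib.Spor.TC

theorem valid : act.Valid relsJ :=
  ⟨((((((((((((((((range0.append _ range384).append _ range768).append _ range1152).append _ range1536).append _ range1920).append _ range2304).append _ range2688).append _ range3072).append _ range3456).append _ range3840).append _ range4224).append _ range4608).append _ range4992).append _ range5376).append _ range5760).append _ range6144), by decide +kernel, by decide +kernel⟩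

end CfsgLib.Spor.J3.ActJ
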